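import Mathlib
import Cfsg.Prelude.Def_Solvable
import Cfsg.Agent.Lib.Invol.BaerSuzuki
import Cfsg.Agent.Lib.Solvable.Core
import Cfsg.Agent.Lib.Solvable.SmallOrder

/-!
# Pairwise non-coprime class sizes in every subgroup

If in every subgroup the non-trivial class sizes are pairwise non-coprime then no involution
inverts an element of odd prime order modulo the 2-core, so the group is solvable as soon as groups
of odd order are (the hypothesis `hFT`).
-/

set_option autoImplicit false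

open Cfsg

namespace CfsgLib.FTGated.ClassSizes

variable {G : Type*} [Group G] [Finite G]

/-- The class-size hypothesis. -/
def NonCoprimeClasses (G : Type*) [Group G] : Prop :=
  ∀ (H : Subgroup G) (x y : H), 1 < (Subgroup.centralizer ({x} : Set H)).index →
    1 < (Subgroup.centralizer ({y} : Set H)).index →
    ¬ ((Subgroup.centralizer ({x} : Set H)).index).Coprime
      (Subgroup.centralizer ({y} : Set H)).index

/-- In such a group no 2-element inverts an element of odd prime order. -/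
theorem not_inverted (h : NonCoprimeClasses G) {p : ℕ} (hp : p.Prime) (hodd : Odd p) {y s : G}
    (hy : orderOf y = p) {a : ℕ} (hs : orderOf s = 2 ^ a) : s * y * s⁻¹ ≠ y⁻¹ := by
  intro hinv
  have hy1 : y ≠ y⁻¹ := by
    intro e
    have h2 : orderOf y ∣ 2 := orderOf_dvd_of_pow_eq_one (by rw [sq]; nth_rw 2 [e]; exact mul_inv_cancel y)
    rw [hy] at h2
    have := (Nat.prime_dvd_prime_iff_eq hp Nat.prime_two).1 h2
    subst this
    exact absurd hodd (by decide)
  let H : Subgroup G := Subgroup.zpowers s ⊔ Subgroup.zpowers y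
  let y' : H := ⟨y, Subgroup.mem_sup_right (Subgroup.mem_zpowers y)⟩
  let s' : H := ⟨s, Subgroup.mem_sup_left (Subgroup.mem_zpowers s)⟩
  have hoy : orderOf y' = p := by rw [← hy]; exact (Subgroup.orderOf_coe y').symm
  have hos : orderOf s' = 2 ^ a := by rw [← hs]; exact (Subgroup.orderOf_coe s').symm
  set Y : Subgroup H := Subgroup.zpowers y' with hY
  set S : Subgroup H := Subgroup.zpowers s' with hS
  have htop : S ⊔ Y = ⊤ := by
    apply Subgroup.map_injective H.subtype_injective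
    rw [Subgroup.map_sup, MonoidHom.map_zpowers, MonoidHom.map_zpowers, ← MonoidHom.range_eq_map,
      Subgroup.range_subtype]
    rfl
  haveI hYn : Y.Normal := by
    rw [← Subgroup.normalizer_eq_top_iff, eq_top_iff, ← htop]
    refine sup_le ?_ Subgroup.le_normalizer
    rw [hS, Subgroup.zpowers_le]
    have he : s' * y' * s'⁻¹ = y'⁻¹ := Subtype.ext hinv
    rw [Subgroup.mem_normalizer_iff]
    intro z
    constructor
    · intro hz
      obtain ⟨k, rfl⟩ := Subgroup.mem_zpowers_iff.1 hz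
      rw [← conj_zpow, he]
      exact Y.zpow_mem (Y.inv_mem (Subgroup.mem_zpowers y')) k
    · intro hz
      obtain ⟨k, hk⟩ := Subgroup.mem_zpowers_iff.1 hz
      have : z = (y' ^ (-k)) := by
        have h2 : s' * y' ^ (-k) * s'⁻¹ = y' ^ k := by
          rw [← conj_zpow, he, inv_zpow', neg_neg]
        rw [hk] at h2
        exact (mul_left_cancel (mul_right_cancel h2)).symm
      rw [this]
      exact Y.zpow_mem (Subgroup.mem_zpowers y') _
  have hYidx : Y.index ∣ 2 ^ a := by
    rw [← Y.relIndex_top_right, ← htop, Subgroup.relIndex_sup_right, ← hos, ← Nat.card_zpowers]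
    exact Y.relIndex_dvd_card S
  have hcard : Nat.card H ∣ p * 2 ^ a := by
    rw [← Y.card_mul_index, Nat.card_zpowers, hoy]
    exact Nat.mul_dvd_mul_left p hYidx
  set Cy := Subgroup.centralizer ({y'} : Set H) with hCy
  set Cs := Subgroup.centralizer ({s'} : Set H) with hCs
  have hsy : s' * y' ≠ y' * s' := by
    intro e
    apply hy1
    have e' : s * y = y * s := congrArg Subtype.val e
    rw [← hinv, e', mul_inv_cancel_right]
  have hy2 : 1 < Cy.index := by
    refine lt_of_le_of_ne (Nat.one_le_iff_ne_zero.2 Subgroup.FiniteIndex.index_ne_zero) fun e => ?_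
    have : s' ∈ Cy := (Subgroup.index_eq_one.1 e.symm) ▸ Subgroup.mem_top s'
    exact hsy (Subgroup.mem_centralizer_iff.1 this y' (Set.mem_singleton y')).symm
  have hs2 : 1 < Cs.index := by
    refine lt_of_le_of_ne (Nat.one_le_iff_ne_zero.2 Subgroup.FiniteIndex.index_ne_zero) fun e => ?_
    have : y' ∈ Cs := (Subgroup.index_eq_one.1 e.symm) ▸ Subgroup.mem_top y'
    exact hsy (Subgroup.mem_centralizer_iff.1 this s' (Set.mem_singleton s'))
  have hy3 : Cy.index ∣ 2 ^ a := by
    refine (Subgroup.index_dvd_of_le ?_).trans hYidx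
    rw [hY, Subgroup.zpowers_le]
    exact Subgroup.mem_centralizer_singleton_iff.2 rfl
  have hs3 : Cs.index ∣ p := by
    have h1 : 2 ^ a ∣ Nat.card Cs := by
      rw [← hos, ← Nat.card_zpowers]
      refine Subgroup.card_dvd_of_le ?_
      rw [Subgroup.zpowers_le]
      exact Subgroup.mem_centralizer_singleton_iff.2 rfl
    obtain ⟨c, hc⟩ := h1
    have h2 : Cs.index * 2 ^ a ∣ p * 2 ^ a := by
      refine dvd_trans ?_ hcard
      rw [← Cs.index_mul_card, hc]
      exact ⟨c, by ring⟩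
    exact (Nat.mul_dvd_mul_iff_right (pow_pos two_pos a)).1 h2
  refine h H y' s' hy2 hs2 ?_
  refine Nat.Coprime.of_dvd hy3 hs3 ?_
  exact Nat.Coprime.pow_left _ (Nat.coprime_two_left.2 hodd)

/-- In such a group the quotient by the 2-core has odd order. -/
theorem odd_card_quotient (h : NonCoprimeClasses G) (R : Subgroup G) [R.Normal]
    (hR : R = Cfsg.pCore 2 G) : Odd (Nat.card (G ⧸ R)) := by
  haveI : Fact (Nat.Prime 2) := ⟨Nat.prime_two⟩
  rw [Nat.odd_iff, ← Nat.two_dvd_ne_zero]
  intro hdvd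
  obtain ⟨t, ht⟩ := exists_prime_orderOf_dvd_card' (G := G ⧸ R) 2 hdvd
  have hR2 : IsPGroup 2 R := hR ▸ CfsgLib.Solvable.pCore_isPGroup 2 G
  obtain ⟨d, hd1, hdodd, hdinv⟩ :=
    CfsgLib.Invol.exists_odd_inverted_of_notMem_normal_two ht fun N hN hN2 hmem => by
      have hb := (CfsgLib.Solvable.le_pCore hN hN2).trans
        (CfsgLib.Solvable.pCore_quotient_eq_bot R hR).le
      have : t = 1 := Subgroup.mem_bot.1 (hb hmem)
      simp [this] at ht
  -- an inverted element of prime order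
  obtain ⟨p, hp, hpd⟩ := Nat.exists_prime_and_dvd (mt orderOf_eq_one_iff.1 hd1)
  haveI := Fact.mk hp
  have hpodd : Odd p := hdodd.of_dvd_nat hpd
  obtain ⟨w, hwd, hwo⟩ : ∃ w : G ⧸ R, t * w * t⁻¹ = w⁻¹ ∧ orderOf w = p := by
    refine ⟨d ^ (orderOf d / p), ?_, orderOf_pow_orderOf_div (orderOf_pos d).ne' hpd⟩
    rw [← conj_pow, hdinv, inv_pow]
  let π := QuotientGroup.mk' R
  have hπ : Function.Surjective π := QuotientGroup.mk'_surjective R
  set Y : Subgroup G := (Subgroup.zpowers w).comap π with hY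
  have hYcard : Nat.card Y = p * Nat.card R := by
    have h1 : (R.subgroupOf Y).index = p := by
      rw [← Subgroup.relIndex]
      have h2 : R = (⊥ : Subgroup (G ⧸ R)).comap π := by
        rw [MonoidHom.comap_bot, QuotientGroup.ker_mk']
      conv_lhs => rw [h2, hY, Subgroup.relIndex_comap, Subgroup.map_comap_eq_self_of_surjective hπ,
        Subgroup.relIndex_bot_left, Nat.card_zpowers, hwo]
    have h3 : R ≤ Y := fun r hr => by
      show π r ∈ Subgroup.zpowers w
      rw [show π r = 1 from (QuotientGroup.eq_one_iff r).2 hr]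
      exact one_mem _
    rw [← (R.subgroupOf Y).index_mul_card, h1,
      Nat.card_congr (Subgroup.subgroupOfEquivOfLe h3).toEquiv]
  obtain ⟨y0, hy0⟩ := exists_prime_orderOf_dvd_card' (G := Y) p (hYcard ▸ dvd_mul_right p _)
  have hnot : ∀ z : G, orderOf z = p → z ∉ R := by
    intro z hz hzR
    obtain ⟨k, hk⟩ := IsPGroup.iff_card.1 hR2
    have h1 : p ∣ 2 ^ k := by
      rw [← hk, ← hz, ← Subgroup.orderOf_mk z hzR]
      exact orderOf_dvd_natCard _
    have := (Nat.prime_dvd_prime_iff_eq hp Nat.prime_two).1 (hp.dvd_of_dvd_pow h1)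
    subst this
    exact absurd hpodd (by decide)
  have hcop : (Nat.card R).Coprime p := by
    obtain ⟨k, hk⟩ := IsPGroup.iff_card.1 hR2
    rw [hk]
    exact Nat.Coprime.pow_left _ (Nat.coprime_two_left.2 hpodd)
  have hsyl : ∀ z : Y, orderOf z = p → ∃ P : Sylow p Y, (P : Subgroup Y) = Subgroup.zpowers z := by
    intro z hz
    refine ⟨Sylow.ofCard (Subgroup.zpowers z) ?_, rfl⟩
    rw [Nat.card_zpowers, hz, hYcard,
      Nat.factorization_mul hp.ne_zero Nat.card_pos.ne', Finsupp.add_apply,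
      hp.factorization_self,
      Nat.factorization_eq_zero_of_not_dvd
        (fun hdv => hp.ne_one (Nat.eq_one_of_dvd_coprimes hcop hdv dvd_rfl)), add_zero, pow_one]
  obtain ⟨T, hT⟩ := hπ t
  set y : G := (y0 : G) with hy
  have hyo : orderOf y = p := by rw [hy, Subgroup.orderOf_coe, hy0]
  have hyw : π y ∈ Subgroup.zpowers w := y0.2
  have htinv : ∀ z ∈ Subgroup.zpowers w, t * z * t⁻¹ = z⁻¹ := by
    rintro z ⟨k, rfl⟩
    simp only [← conj_zpow, hwd, inv_zpow]
  have hTy : T * y * T⁻¹ ∈ Y := by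
    show π (T * y * T⁻¹) ∈ Subgroup.zpowers w
    rw [map_mul, map_mul, map_inv, hT, htinv _ hyw]
    exact Subgroup.inv_mem _ hyw
  let y1 : Y := ⟨T * y * T⁻¹, hTy⟩
  have hy1o : orderOf y1 = p := by
    rw [← Subgroup.orderOf_coe]
    exact (MulEquiv.orderOf_eq (MulAut.conj T) y).trans hyo
  obtain ⟨P0, hP0⟩ := hsyl y0 hy0
  obtain ⟨P1, hP1⟩ := hsyl y1 hy1o
  obtain ⟨g, hg⟩ := MulAction.exists_smul_eq Y P1 P0
  have hmem : g * y1 * g⁻¹ ∈ Subgroup.zpowers y0 := by
    rw [← hP0, ← hg, Sylow.coe_subgroup_smul]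
    exact Subgroup.smul_mem_pointwise_smul _ _ _ (hP1 ▸ Subgroup.mem_zpowers y1)
  obtain ⟨k, hk⟩ := Subgroup.mem_zpowers_iff.1 hmem
  set u : G := (g : G) * T with hu
  have hk' : y ^ k = u * y * u⁻¹ := by
    have := congrArg Subtype.val hk
    simp only [Subgroup.coe_zpow, Subgroup.coe_mul, Subgroup.coe_inv, y1] at this
    calc y ^ k = (g : G) * (T * y * T⁻¹) * (g : G)⁻¹ := this
      _ = _ := by rw [hu]; group
  have hπu : π (u * y * u⁻¹) = (π y)⁻¹ := by
    have hgw : π (g : G) ∈ Subgroup.zpowers w := g.2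
    rw [hu, map_mul, map_mul, map_inv, map_mul, hT, mul_inv_rev]
    rw [show π (g : G) * t * π y * (t⁻¹ * (π (g : G))⁻¹)
      = π (g : G) * (t * π y * t⁻¹) * (π (g : G))⁻¹ by group, htinv _ hyw]
    obtain ⟨i, hi⟩ := Subgroup.mem_zpowers_iff.1 hgw
    obtain ⟨j, hj⟩ := Subgroup.mem_zpowers_iff.1 hyw
    rw [← hi, ← hj, ← zpow_neg, ← zpow_neg, ← zpow_add, ← zpow_add]
    congr 1
    ring
  have huinv : u * y * u⁻¹ = y⁻¹ := by
    have h1 : u * y * u⁻¹ * y ∈ R := by
      rw [← QuotientGroup.eq_one_iff]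
      show π (u * y * u⁻¹ * y) = 1
      rw [map_mul, hπu, inv_mul_cancel]
    rw [← hk'] at h1 ⊢
    by_contra hne
    have h2 : y ^ (k + 1) ≠ 1 := fun e => hne (eq_inv_of_mul_eq_one_left (by rw [← zpow_add_one]; exact e))
    have h3 : orderOf (y ^ (k + 1)) = p := by
      have hd : orderOf (y ^ (k + 1)) ∣ p := orderOf_dvd_of_pow_eq_one (by
        rw [← zpow_natCast, ← zpow_mul, mul_comm, zpow_mul, zpow_natCast, ← hyo, pow_orderOf_eq_one,
          one_zpow])
      exact ((Nat.dvd_prime hp).1 hd).resolve_left (fun e => h2 (orderOf_eq_one_iff.1 e))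
    exact hnot _ h3 (by rw [zpow_add_one]; exact h1)
  obtain ⟨a, m, hm, ham⟩ := Nat.exists_eq_two_pow_mul_odd (orderOf_pos u).ne'
  have hso : orderOf (u ^ m) = 2 ^ a := by
    rw [orderOf_pow_of_dvd hm.pos.ne' (by rw [ham]; exact dvd_mul_left m _), ham,
      Nat.mul_div_cancel _ hm.pos]
  refine not_inverted h hp hpodd hyo hso ?_
  have hpow : ∀ i : ℕ, u ^ (2 * i) * y * (u ^ (2 * i))⁻¹ = y := by
    intro i
    induction i with
    | zero => simp
    | succ i ih =>
      rw [show 2 * (i + 1) = 2 * i + 1 + 1 by ring, pow_succ, pow_succ]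
      calc u ^ (2 * i) * u * u * y * (u ^ (2 * i) * u * u)⁻¹
          = u ^ (2 * i) * (u * (u * y * u⁻¹) * u⁻¹) * (u ^ (2 * i))⁻¹ := by group
        _ = u ^ (2 * i) * (u * y⁻¹ * u⁻¹) * (u ^ (2 * i))⁻¹ := by rw [huinv]
        _ = u ^ (2 * i) * y * (u ^ (2 * i))⁻¹ := by rw [← conj_inv, huinv, inv_inv]
        _ = y := ih
  obtain ⟨i, rfl⟩ := hm
  rw [show 2 * i + 1 = 1 + 2 * i by ring, pow_add, pow_one]
  calc u * u ^ (2 * i) * y * (u * u ^ (2 * i))⁻¹
      = u * (u ^ (2 * i) * y * (u ^ (2 * i))⁻¹) * u⁻¹ := by group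
    _ = y⁻¹ := by rw [hpow, huinv]

universe u

/-- Solvability, given the odd order theorem. -/
theorem isSolvable_of_classes
    (hFT : ∀ (X : Type u) [Group X] [Finite X], Odd (Nat.card X) → Group.IsSolvable X)
    {G : Type u} [Group G] [Finite G] (h : NonCoprimeClasses G) : Group.IsSolvable G := by
  haveI : Fact (Nat.Prime 2) := ⟨Nat.prime_two⟩
  haveI := CfsgLib.Solvable.pCore_normal 2 G
  exact CfsgLib.Solvable.isSolvable_of_normal (Cfsg.pCore 2 G)
    (CfsgLib.Solvable.isSolvable_of_isPGroup (p := 2) (CfsgLib.Solvable.pCore_isPGroup 2 G))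
    (hFT _ (odd_card_quotient h _ rfl))

end CfsgLib.FTGated.ClassSizes
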