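import Mathlib
import Cfsg.Agent.S0949
import Cfsg.Agent.S5212
import Cfsg.Agent.Lib.Fusion.Group
import Cfsg.Agent.Lib.Transfer.Tate
import Cfsg.Agent.Lib.TwoFusion.FusionTools
import Cfsg.Agent.Lib.Solvable.SmallOrder

/-!
# Metacyclic Sylow 2-subgroups with a large cyclic quotient

The fusion-theoretic reduction of the solvability theorem to groups of odd order; the solvability
of groups of odd order enters only as an explicit hypothesis `hFT`.
-/

set_option autoImplicit false

open Cfsg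

namespace CfsgLib.FTGated.MetacyclicTwo

universe u

/-- A cyclic group all of whose elements square to one has at most two elements. -/
theorem card_le_two_of_sq {C : Type*} [Group C] [Finite C] [IsCyclic C] (h : ∀ c : C, c ^ 2 = 1) :
    Nat.card C ≤ 2 := by
  obtain ⟨g, hg⟩ := IsCyclic.exists_ofOrder_eq_natCard (α := C)
  rw [← hg]
  exact Nat.le_of_dvd two_pos (orderOf_dvd_of_pow_eq_one (h g))

theorem dihedral_sq_one {C : Type*} [CommGroup C] {m : ℕ} (ψ : DihedralGroup m →* C)
    (d : DihedralGroup m) : ψ d ^ 2 = 1 := by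
  have hs : ∀ i : ZMod m, ψ (DihedralGroup.sr i) ^ 2 = 1 := fun i => by
    rw [sq, ← map_mul, DihedralGroup.sr_mul_self, map_one]
  cases d with
  | r i =>
    have : ψ (DihedralGroup.r i) = ψ (DihedralGroup.sr 0) * ψ (DihedralGroup.sr i) := by
      rw [← map_mul, DihedralGroup.sr_mul_sr, sub_zero]
    rw [this, mul_pow, hs, hs, one_mul]
  | sr i => exact hs i

theorem quaternion_sq_one {C : Type*} [CommGroup C] {m : ℕ} [NeZero m] (hm : Even m)
    (ψ : QuaternionGroup m →* C) (d : QuaternionGroup m) : ψ d ^ 2 = 1 := by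
  set c := ψ (QuaternionGroup.a (m : ZMod (2 * m))) with hc
  have hx : ∀ i, ψ (QuaternionGroup.xa i) ^ 2 = c := fun i => by
    rw [← map_pow, QuaternionGroup.xa_sq]
  have ha : ∀ i, ψ (QuaternionGroup.a i) ^ 2 = 1 := fun i => by
    have h : ψ (QuaternionGroup.xa 0) * ψ (QuaternionGroup.a i) = ψ (QuaternionGroup.xa i) := by
      rw [← map_mul, QuaternionGroup.xa_mul_a, zero_add]
    have h2 := congrArg (fun z => z ^ 2) h
    simp only [mul_pow, hx] at h2
    exact mul_eq_left.mp h2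
  have hc1 : c = 1 := by
    obtain ⟨k, hk⟩ := hm
    have h1 : (ψ (QuaternionGroup.a 1)) ^ m = c := by
      rw [← map_pow, QuaternionGroup.a_one_pow]
    calc c = ψ (QuaternionGroup.a 1) ^ m := h1.symm
      _ = ψ (QuaternionGroup.a 1) ^ (2 * k) := congrArg _ (by omega)
      _ = 1 := by rw [pow_mul, ha, one_pow]
  cases d with
  | a i => exact ha i
  | xa i => rw [hx, hc1]

theorem quasiDihedral_sq_one {Q C : Type*} [Group Q] [Finite Q] [CommGroup C]
    (hq : Cfsg.IsQuasiDihedral Q) (ψ : Q →* C) (d : Q) : ψ d ^ 2 = 1 := by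
  obtain ⟨n, hn, hcard, x, y, hx, hy, hrel⟩ := hq
  obtain ⟨j, rfl⟩ : ∃ j, n = j + 3 := ⟨n - 3, by omega⟩
  rw [show j + 3 - 1 = j + 2 by omega] at hrel
  have h8 : 2 ^ (j + 2) = 4 * 2 ^ j := by rw [pow_add]; ring
  have h16 : 2 ^ (j + 3) = 8 * 2 ^ j := by rw [pow_add]; ring
  have hpos : 0 < 2 ^ j := pow_pos two_pos j
  have hv : ψ x ^ (2 ^ (j + 2) - 2) = 1 := by
    have h1 : ψ x = ψ x ^ (2 ^ (j + 2) - 1) := by
      have := congrArg ψ hrel
      rwa [map_mul, map_mul, map_pow, map_inv, mul_comm (ψ y), mul_inv_cancel_right] at this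
    have h2 : ψ x ^ (2 ^ (j + 2) - 1) = ψ x ^ (2 ^ (j + 2) - 2) * ψ x := by
      rw [← pow_succ]; congr 1; omega
    exact mul_eq_right.mp (h2.symm.trans h1.symm)
  have hv2 : ψ x ^ (2 ^ (j + 3)) = 1 := by rw [← map_pow, ← hx, pow_orderOf_eq_one, map_one]
  have hxsq : ψ x ^ 2 = 1 := by
    have hg : Nat.gcd (2 ^ (j + 2) - 2) (2 ^ (j + 3)) ∣ 2 := by
      have e1 : 2 ^ (j + 2) - 2 = 2 * (2 ^ (j + 1) - 1) := by
        rw [Nat.mul_sub, ← pow_succ', mul_one]
      have e2 : 2 ^ (j + 3) = 2 * 2 ^ (j + 2) := by rw [← pow_succ']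
      rw [e1, e2, Nat.gcd_mul_left]
      have hodd : Odd (2 ^ (j + 1) - 1) := by
        refine Nat.Even.sub_odd (Nat.one_le_pow _ _ two_pos) ?_ odd_one
        exact even_two.pow_of_ne_zero (by omega)
      have : Nat.Coprime (2 ^ (j + 1) - 1) (2 ^ (j + 2)) :=
        Nat.Coprime.pow_right _ (Nat.coprime_two_right.2 hodd)
      rw [this, mul_one]
    exact orderOf_dvd_iff_pow_eq_one.mp
      ((Nat.dvd_gcd (orderOf_dvd_of_pow_eq_one hv) (orderOf_dvd_of_pow_eq_one hv2)).trans hg)
  let T : Subgroup Q := MonoidHom.ker ((powMonoidHom 2).comp ψ)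
  have hmem : ∀ z, z ∈ T ↔ ψ z ^ 2 = 1 := fun z => Iff.rfl
  have hxT : x ∈ T := (hmem x).2 hxsq
  have hyT : y ∈ T := by
    rw [hmem, ← map_pow, ← hy, pow_orderOf_eq_one, map_one]
  have hyX : y ∉ Subgroup.zpowers x := by
    rintro ⟨k, hk⟩
    have hc : Commute y x := by rw [← hk]; exact (Commute.refl x).zpow_left k
    rw [hc.eq, mul_inv_cancel_right] at hrel
    have h2 : x ^ (2 ^ (j + 2) - 1) = x ^ (2 ^ (j + 2) - 2) * x := by
      rw [← pow_succ]; congr 1; omega
    have h3 : x ^ (2 ^ (j + 2) - 2) = 1 := mul_eq_right.mp (h2.symm.trans hrel.symm)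
    have h4 := Nat.le_of_dvd (by omega) (hx ▸ orderOf_dvd_of_pow_eq_one h3)
    omega
  have hlt : Subgroup.zpowers x < T :=
    lt_of_le_of_ne (Subgroup.zpowers_le.2 hxT) fun e => hyX (e ▸ hyT)
  have hcT : Nat.card (Subgroup.zpowers x) < Nat.card T := by
    refine lt_of_le_of_ne (Subgroup.card_le_of_le hlt.le) fun e => ?_
    exact hlt.ne (Subgroup.eq_of_le_of_card_ge hlt.le e.ge)
  rw [Nat.card_zpowers, hx] at hcT
  have hdvd : Nat.card T ∣ 2 ^ (j + 3 + 1) := hcard ▸ Subgroup.card_subgroup_dvd_card T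
  obtain ⟨i, hi, hTi⟩ := (Nat.dvd_prime_pow Nat.prime_two).1 hdvd
  have hij : i = j + 3 + 1 := by
    rw [hTi] at hcT
    have := (Nat.pow_lt_pow_iff_right (by norm_num)).1 hcT
    omega
  have htop : T = ⊤ := Subgroup.eq_top_of_card_eq T (by rw [hTi, hij, hcard])
  exact (hmem d).1 (htop ▸ Subgroup.mem_top d)

/-- A group with a normal `2`-complement is solvable, given the odd order theorem. -/
theorem isSolvable_of_hasNormalPComplement
    (hFT : ∀ (X : Type u) [Group X] [Finite X], Odd (Nat.card X) → Group.IsSolvable X)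
    {G : Type u} [Group G] [Finite G] (h : HasNormalPComplement 2 G) : Group.IsSolvable G := by
  haveI : Fact (Nat.Prime 2) := ⟨Nat.prime_two⟩
  obtain ⟨P, N, hN, hC⟩ := h
  haveI := hN
  have hodd : Odd (Nat.card N) := by
    rw [Nat.odd_iff, ← Nat.two_dvd_ne_zero]
    intro hd
    have := P.not_dvd_index
    rw [hC.index_eq_card] at this
    exact this hd
  refine CfsgLib.Solvable.isSolvable_of_normal N (hFT N hodd) ?_
  exact CfsgLib.Solvable.isSolvable_of_isPGroup (p := 2)
    (P.2.of_equiv hC.symm.QuotientMulEquiv.symm)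

/-- The homocyclic case: Brauer's theorem leaves only solvable groups. -/
theorem isSolvable_of_homocyclic
    (hFT : ∀ (X : Type u) [Group X] [Finite X], Odd (Nat.card X) → Group.IsSolvable X)
    {G : Type u} [Group G] [Finite G] (P : Sylow 2 G) (n : ℕ) (hn : 2 ≤ n)
    (e : (P : Subgroup G) ≃* Multiplicative (ZMod (2 ^ n) × ZMod (2 ^ n))) :
    Group.IsSolvable G := by
  haveI : Fact (Nat.Prime 2) := ⟨Nat.prime_two⟩
  set O := Cfsg.pPrimeCore 2 G with hO
  haveI : O.Normal := CfsgLib.Solvable.pPrimeCore_normal 2 G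
  have hOodd : Odd (Nat.card O) :=
    Nat.coprime_two_right.1 (CfsgLib.Solvable.pPrimeCore_card_coprime 2 G)
  let π := QuotientGroup.mk' O
  have hπ : Function.Surjective π := QuotientGroup.mk'_surjective O
  let P' : Sylow 2 (G ⧸ O) := P.mapSurjective hπ
  have hker : π.ker ⊓ (P : Subgroup G) = ⊥ := by
    rw [QuotientGroup.ker_mk']
    obtain ⟨k, hk⟩ := IsPGroup.iff_card.1 P.2
    refine (Subgroup.inf_eq_bot_of_coprime ?_)
    rw [hk]
    exact Nat.Coprime.pow_right _ (Nat.coprime_two_right.2 hOodd)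
  have hinj : Function.Injective (π.subgroupMap (P : Subgroup G)) := by
    rw [injective_iff_map_eq_one]
    intro a ha
    have : (a : G) ∈ π.ker ⊓ (P : Subgroup G) := ⟨congrArg Subtype.val ha, a.2⟩
    rw [hker, Subgroup.mem_bot] at this
    exact Subtype.ext this
  let e' : (P' : Subgroup (G ⧸ O)) ≃* Multiplicative (ZMod (2 ^ n) × ZMod (2 ^ n)) :=
    (MulEquiv.ofBijective (π.subgroupMap (P : Subgroup G))
      ⟨hinj, π.subgroupMap_surjective _⟩).symm.trans e
  have hbot : ∀ N : Subgroup (G ⧸ O), N.Normal → Odd (Nat.card N) → N = ⊥ := fun N hN ho =>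
    le_bot_iff.1 ((CfsgLib.Solvable.le_pPrimeCore hN (Nat.coprime_two_right.2 ho)).trans
      (CfsgLib.Solvable.pPrimeCore_quotient_eq_bot O hO).le)
  obtain ⟨hnorm, -, hidx⟩ := Cfsg.Agent.S0949.result P' n hn e' hbot
  haveI := hnorm
  refine CfsgLib.Solvable.isSolvable_of_normal O (hFT O hOodd) ?_
  refine CfsgLib.Solvable.isSolvable_of_normal (P' : Subgroup (G ⧸ O))
    (CfsgLib.Solvable.isSolvable_of_isPGroup P'.2) ?_
  refine hFT _ ?_
  rw [← Subgroup.index_eq_card]
  rcases hidx with h | h <;> rw [h] <;> decide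

/-- A group whose Sylow 2-subgroup is metacyclic with a cyclic quotient of order greater than two
is solvable, given the odd order theorem. -/
theorem isSolvable_of_metacyclic
    (hFT : ∀ (X : Type u) [Group X] [Finite X], Odd (Nat.card X) → Group.IsSolvable X)
    {G : Type u} [Group G] [Finite G] (S : Sylow 2 G) (N : Subgroup ↥(S : Subgroup G)) [N.Normal]
    (hNc : IsCyclic N) (hQc : IsCyclic (↥(S : Subgroup G) ⧸ N))
    (hQ : 2 < Nat.card (↥(S : Subgroup G) ⧸ N)) : Group.IsSolvable G := by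
  haveI : Fact (Nat.Prime 2) := ⟨Nat.prime_two⟩
  by_cases hcyc : IsCyclic (S : Subgroup G)
  · refine isSolvable_of_hasNormalPComplement hFT
      (CfsgLib.TwoFusion.FusionTools.hasNormalPComplement_of_cyclic S ⊤ (k := 0) ?_ ?_)
    · simp
    · rwa [inf_top_eq]
  letI : CommGroup (↥(S : Subgroup G) ⧸ N) := IsCyclic.commGroup
  let ψ : ↥(S : Subgroup G) →* ↥(S : Subgroup G) ⧸ N := QuotientGroup.mk' N
  have hψ : Function.Surjective ψ := QuotientGroup.mk'_surjective N
  have hbad : ¬ ∀ s, ψ s ^ 2 = 1 := by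
    intro h
    have := card_le_two_of_sq (C := ↥(S : Subgroup G) ⧸ N) (hψ.forall.2 h)
    omega
  by_cases hh : ∃ n k : ℕ,
      Nonempty (↥(S : Subgroup G) ≃* Multiplicative (Fin k → ZMod (2 ^ n)))
  · obtain ⟨n, k, ⟨e⟩⟩ := hh
    have hexp : ∀ s : ↥(S : Subgroup G), s ^ (2 ^ n) = 1 := fun s => by
      apply e.injective
      rw [map_pow, map_one]
      apply Multiplicative.toAdd.injective
      funext i
      simp
    have hcard : Nat.card (S : Subgroup G) = (2 ^ n) ^ k := by
      rw [Nat.card_congr e.toEquiv, Nat.card_congr Multiplicative.toAdd, Nat.card_fun,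
        Nat.card_zmod, Nat.card_fin]
    have hcN : Nat.card N ≤ 2 ^ n := by
      obtain ⟨g, hg⟩ := IsCyclic.exists_ofOrder_eq_natCard (α := N)
      rw [← hg]
      exact orderOf_le_of_pow_eq_one (pow_pos two_pos n) (Subtype.ext (hexp g))
    have hcQ : Nat.card (↥(S : Subgroup G) ⧸ N) ≤ 2 ^ n := by
      obtain ⟨g, hg⟩ := IsCyclic.exists_ofOrder_eq_natCard (α := ↥(S : Subgroup G) ⧸ N)
      rw [← hg]
      obtain ⟨s, rfl⟩ := hψ g
      exact orderOf_le_of_pow_eq_one (pow_pos two_pos n) (by rw [← map_pow, hexp, map_one])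
    have hn : 2 ≤ n := by
      by_contra hlt
      have : 2 ^ n ≤ 2 := by
        rcases (show n = 0 ∨ n = 1 by omega) with rfl | rfl <;> norm_num
      omega
    have hk : k ≤ 2 := by
      have h1 : (2 ^ n) ^ k ≤ (2 ^ n) ^ 2 := by
        rw [← hcard, Subgroup.card_eq_card_quotient_mul_card_subgroup N, sq]
        exact Nat.mul_le_mul hcQ hcN
      exact (Nat.pow_le_pow_iff_right (Nat.one_lt_two_pow (by omega))).1 h1
    have hk2 : k = 2 := by
      rcases (show k = 0 ∨ k = 1 ∨ k = 2 by omega) with rfl | rfl | rfl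
      · exfalso
        apply hcyc
        haveI : Subsingleton (↥(S : Subgroup G)) := e.toEquiv.subsingleton
        exact isCyclic_of_subsingleton
      · exfalso
        apply hcyc
        let f : Multiplicative (Fin 1 → ZMod (2 ^ n)) ≃* Multiplicative (ZMod (2 ^ n)) :=
          AddEquiv.toMultiplicative (LinearEquiv.funUnique (Fin 1) ℤ (ZMod (2 ^ n))).toAddEquiv
        exact (e.trans f).isCyclic.2 inferInstance
      · rfl
    subst hk2
    exact isSolvable_of_homocyclic hFT S n hn (e.trans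
      (AddEquiv.toMultiplicative (LinearEquiv.finTwoArrow ℤ (ZMod (2 ^ n))).toAddEquiv))
  by_cases hd : ∃ m : ℕ, Nonempty (↥(S : Subgroup G) ≃* DihedralGroup m)
  · obtain ⟨m, ⟨e⟩⟩ := hd
    refine absurd (fun s => ?_) hbad
    simpa using dihedral_sq_one (ψ.comp e.symm.toMonoidHom) (e s)
  by_cases hq : ∃ m : ℕ, Nonempty (↥(S : Subgroup G) ≃* QuaternionGroup m)
  · obtain ⟨m, ⟨e⟩⟩ := hq
    have hm0 : m ≠ 0 := by
      rintro rfl
      have : Finite (QuaternionGroup 0) := Finite.of_equiv _ e.toEquiv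
      have hf : Finite (ZMod (2 * 0)) :=
        Finite.of_injective (QuaternionGroup.a (n := 0)) fun a b h => by injection h
      haveI : Finite ℤ := hf
      exact not_finite ℤ
    haveI : NeZero m := ⟨hm0⟩
    by_cases hev : Even m
    · refine absurd (fun s => ?_) hbad
      simpa using quaternion_sq_one hev (ψ.comp e.symm.toMonoidHom) (e s)
    · exfalso
      obtain ⟨l, hl⟩ := IsPGroup.iff_card.1 S.2
      have hdvd : m ∣ 2 ^ l := by
        rw [← hl, Nat.card_congr e.toEquiv, Nat.card_eq_fintype_card, QuaternionGroup.card]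
        exact dvd_mul_left m 4
      obtain ⟨i, -, rfl⟩ := (Nat.dvd_prime_pow Nat.prime_two).1 hdvd
      cases i with
      | zero =>
        haveI : IsCyclic (QuaternionGroup (2 ^ 0)) := QuaternionGroup.quaternionGroup_one_isCyclic
        exact hcyc (e.isCyclic.2 inferInstance)
      | succ i => exact hev (even_two.pow_of_ne_zero (by omega))
  by_cases hsd : Cfsg.IsQuasiDihedral ↥(S : Subgroup G)
  · exact absurd (fun s => quasiDihedral_sq_one hsd ψ s) hbad
  have hm : Cfsg.IsMetacyclic ↥(S : Subgroup G) := ⟨N, inferInstance, hNc, hQc⟩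
  have hinner := Cfsg.Agent.S5212.result (S := (S : Subgroup G)) S.2
    (groupFusionSystem (S : Subgroup G)) (CfsgLib.Fusion.groupFusionSystem_isSaturated S)
    hm hh hd hq hsd
  refine isSolvable_of_hasNormalPComplement hFT
    (CfsgLib.Transfer.hasNormalPComplement_of_fusion S fun x hx g hgx => ?_)
  let P : Subgroup G := Subgroup.zpowers x
  have hP : P ≤ (S : Subgroup G) := Subgroup.zpowers_le.2 hx
  let φ : P →* G := (MulAut.conj g).toMonoidHom.comp P.subtype
  have hφ : φ ∈ (groupFusionSystem (S : Subgroup G)).Hom P := by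
    refine ⟨hP, fun y => ?_, g, fun y => rfl⟩
    obtain ⟨k, hk⟩ := Subgroup.mem_zpowers_iff.1 y.2
    show g * (y : G) * g⁻¹ ∈ (S : Subgroup G)
    rw [← hk, ← conj_zpow]
    exact (S : Subgroup G).zpow_mem hgx k
  rw [hinner P] at hφ
  obtain ⟨-, z, hz, hzeq⟩ := hφ
  exact ⟨z, hz, (hzeq ⟨x, Subgroup.mem_zpowers x⟩).symm⟩

end CfsgLib.FTGated.MetacyclicTwo
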